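import Mathlib
import Cfsg.Agent.ThreePrime.SzAut

/-!
# Automorphisms of order 3 of `Sz(F)`: coordinates

`coords`: an automorphism `ψ` which fixes `T` and `T ^ w` acts on the torus and on `Z(T)` through a field automorphism
`σ`. `fixes_T`: if `ψ³ = 1` and `σ = 1` then `ψ` centralises `T`. `card_eq_eight`: an automorphism of order 3 of a
field whose only fixed points are `0` and `1`.
-/

set_option autoImplicit false

namespace Cfsg.Agent.H257.SzThree

open Cfsg.Agent.ThreePrime

variable {J : Type*} [Group J] {F : Type*} [Field F]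

/-- `2 ^ (2m+1) ≡ 2` modulo 3 -/
theorem two_pow_mod (m : ℕ) : 2 ^ (2 * m + 1) % 3 = 2 := by
  induction m with
  | zero => rfl
  | succ m ih =>
    rw [show 2 * (m + 1) + 1 = (2 * m + 1) + 2 by ring, pow_add, Nat.mul_mod, ih]
    norm_num

/-- A cube root of unity in the field with `2 ^ (2m+1)` elements is trivial. -/
theorem pow_three_eq_one [Fintype F] {m : ℕ} (hF : Fintype.card F = 2 ^ (2 * m + 1)) {x : F}
    (h : x ^ 3 = 1) : x = 1 := by
  have hx : x ≠ 0 := by
    rintro rfl
    simp at h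
  have h1 : orderOf x ∣ 3 := orderOf_dvd_of_pow_eq_one h
  have h2 : orderOf x ∣ Fintype.card F - 1 :=
    orderOf_dvd_of_pow_eq_one (FiniteField.pow_card_sub_one_eq_one x hx)
  have h3 : Nat.Coprime 3 (Fintype.card F - 1) := by
    rw [Nat.Prime.coprime_iff_not_dvd Nat.prime_three, hF]
    have := two_pow_mod m
    omega
  exact orderOf_eq_one_iff.mp (Nat.eq_one_of_dvd_coprimes h3 h1 h2)

/-- An automorphism of order 3 of a finite field whose only fixed points are `0` and `1`: the field has 8 elements. -/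
theorem card_eq_eight [Fintype F] {m : ℕ} (hF : Fintype.card F = 2 ^ (2 * m + 1)) (σ : F ≃+* F)
    (h3 : ∀ x, σ^[3] x = x) (hne : ∃ x, σ x ≠ x) (hfix : ∀ x, σ x = x → x = 0 ∨ x = 1) :
    Fintype.card F = 8 := by
  classical
  have hch : CharP F 2 := Cfsg.Agent.LieRecognition.SzMatrix.charP_two hF
  let : Algebra (ZMod 2) F := ZMod.algebra F 2
  let τ : F ≃ₐ[ZMod 2] F := AlgEquiv.ofRingEquiv (f := σ) (fun r => by
    have : (σ : F →+* F).comp (algebraMap (ZMod 2) F) = algebraMap (ZMod 2) F := RingHom.ext_zmod _ _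
    exact RingHom.congr_fun this r)
  have hτ : ∀ k : ℕ, ∀ x, (τ ^ k) x = σ^[k] x := by
    intro k
    induction k with
    | zero => intro x; rfl
    | succ k ih =>
      intro x
      rw [pow_succ', Function.iterate_succ_apply', ← ih]
      rfl
  have h1 : τ ^ 3 = 1 := by
    ext x
    rw [hτ, h3]
    rfl
  have h2 : orderOf τ = 3 := by
    rcases (Nat.dvd_prime Nat.prime_three).mp (orderOf_dvd_of_pow_eq_one h1) with h | h
    · exfalso
      obtain ⟨x, hx⟩ := hne
      have : τ = 1 := orderOf_eq_one_iff.mp h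
      apply hx
      have h4 : τ x = x := by rw [this]; rfl
      exact h4
    · exact h
  let H : Subgroup (F ≃ₐ[ZMod 2] F) := Subgroup.zpowers τ
  let K : IntermediateField (ZMod 2) F := IntermediateField.fixedField H
  have h4 : Module.finrank K F = 3 := by
    rw [IntermediateField.finrank_fixedField_eq_card, Nat.card_zpowers, h2]
  have h5 : ∀ x : F, x ∈ K ↔ x = 0 ∨ x = 1 := by
    intro x
    constructor
    · intro hx
      apply hfix
      have := (IntermediateField.mem_fixedField_iff H x).mp hx τ (Subgroup.mem_zpowers τ)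
      exact this
    · rintro (rfl | rfl)
      · exact zero_mem _
      · exact one_mem _
  have h6 : Nat.card K = 2 := by
    have h7 : ((K : Set F)) = {0, 1} := by
      ext x
      exact h5 x
    have h8 : Nat.card K = Set.ncard (K : Set F) := rfl
    rw [h8, h7, Set.ncard_pair zero_ne_one]
  have h7 : Fintype.card F = Nat.card K ^ Module.finrank K F := by
    rw [← Nat.card_eq_fintype_card]
    exact Module.natCard_eq_pow_finrank
  rw [h7, h6, h4]
  norm_num

variable (R : SzRel.Rel J F)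

/-- Coordinates of an automorphism which fixes `T` and `T ^ w`. -/
theorem coords [Finite F] {ψ : MulAut J} (h1 : ∀ x ∈ R.T, ψ x ∈ R.T)
    (h2 : R.w * ψ R.w ∈ Subgroup.normalizer (R.T : Set J)) :
    ∃ (κ : Fˣ → Fˣ) (β : F → F) (σ : F ≃+* F), (∀ k, ψ (R.d k) = R.d (κ k)) ∧
      (∀ b, ψ (R.u 0 b) = R.u 0 (β b)) ∧ β 1 ≠ 0 ∧ (∀ b, σ b = β b / β 1) ∧
      (∀ k : Fˣ, σ (R.θ k) = R.θ (κ k)) := by
  -- coordinates
  have hκ : ∀ k : Fˣ, ∃ l : Fˣ, ψ (R.d k) = R.d l := fun k => R.map_D h1 h2 k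
  choose κ hκ using hκ
  have hβ : ∀ b : F, ∃ c : F, ψ (R.u 0 b) = R.u 0 c := by
    intro b
    obtain ⟨a, c, h⟩ := h1 _ (R.u_mem 0 b)
    have h3 : ψ (R.u 0 b) * ψ (R.u 0 b) = 1 := by
      rw [← map_mul, (R.u_sq_iff 0 b).2 rfl, map_one]
    rw [h, R.u_sq_iff] at h3
    subst h3
    exact ⟨c, h⟩
  choose β hβ using hβ
  have hβadd : ∀ b c, β (b + c) = β b + β c := by
    intro b c
    have h3 : ψ (R.u 0 b * R.u 0 c) = ψ (R.u 0 (b + c)) := by
      congr 1
      rw [R.u_mul]
      congr 1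
      · ring
      · ring
    rw [map_mul, hβ, hβ, hβ, R.u_mul] at h3
    have := (R.u_inj h3).2
    linear_combination -this
  have hβd : ∀ (b : F) (k : Fˣ), β (b * R.θ k) = β b * R.θ (κ k) := by
    intro b k
    have h3 := congrArg ψ (R.conj_d k 0 b)
    rw [map_mul, map_mul, map_inv, hκ, hβ, R.conj_d, zero_mul, zero_mul, zero_mul, zero_mul, hβ] at h3
    exact (R.u_inj h3).2.symm
  have hβ0 : β 0 = 0 := by
    have := hβadd 0 0
    rw [add_zero] at this
    linear_combination -this
  have hβ1 : β 1 ≠ 0 := by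
    intro h
    have h3 := hβ 1
    rw [h, R.u_zero, ← map_one ψ] at h3
    exact R.u_ne_one one_ne_zero (ψ.injective h3)
  -- the field automorphism
  have hσθ : ∀ k : Fˣ, β (R.θ k) / β 1 = R.θ (κ k) := by
    intro k
    have := hβd 1 k
    rw [one_mul] at this
    rw [this, mul_div_cancel_left₀ _ hβ1]
  have hσmul : ∀ b c, β (b * c) / β 1 = (β b / β 1) * (β c / β 1) := by
    intro b c
    by_cases hc : c = 0
    · rw [hc, mul_zero, hβ0]; ring
    · obtain ⟨k, hk⟩ := R.theta_surj c
      have hk0 : k ≠ 0 := by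
        rintro rfl
        rw [map_zero] at hk
        exact hc hk.symm
      have h3 := hβd b (Units.mk0 k hk0)
      have h4 := hσθ (Units.mk0 k hk0)
      rw [Units.val_mk0, hk] at h3 h4
      rw [h3, h4]
      ring
  let σ₀ : F →+* F :=
    { toFun := fun b => β b / β 1
      map_one' := div_self hβ1
      map_mul' := hσmul
      map_zero' := by
        show β 0 / β 1 = 0
        rw [hβ0, zero_div]
      map_add' := fun b c => by
        show β (b + c) / β 1 = β b / β 1 + β c / β 1
        rw [hβadd, add_div] }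
  have hσ₀ : Function.Bijective σ₀ :=
    ⟨σ₀.injective, Finite.surjective_of_injective σ₀.injective⟩
  let σ : F ≃+* F := RingEquiv.ofBijective σ₀ hσ₀
  exact ⟨κ, β, σ, hκ, hβ, hβ1, fun b => rfl, hσθ⟩

/-- If the field automorphism of `ψ`, `ψ³ = 1`, is trivial then `ψ` centralises `T`. -/
theorem fixes_T [Fintype F] {m : ℕ} (hm : 1 ≤ m) (hF : Fintype.card F = 2 ^ (2 * m + 1))
    {ψ : MulAut J} (h1 : ∀ x ∈ R.T, ψ x ∈ R.T) (hit1 : ∀ x, ψ^[3] x = x)
    {κ : Fˣ → Fˣ} {β : F → F} {σ : F ≃+* F} (hκ : ∀ k, ψ (R.d k) = R.d (κ k))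
    (hβ : ∀ b, ψ (R.u 0 b) = R.u 0 (β b)) (hβ1 : β 1 ≠ 0) (hσ : ∀ b, σ b = β b / β 1)
    (hσθ : ∀ k : Fˣ, σ (R.θ k) = R.θ (κ k)) (hσ1 : ∀ x, σ x = x) :
    ∀ x ∈ R.T, ψ x = x := by
  have h8 : 8 ≤ Nat.card F := by
    rw [Nat.card_eq_fintype_card, hF]
    exact SzRel.Rel.eight_le hm
  have hα : ∀ a : F, ∃ p : F × F, ψ (R.u a 0) = R.u p.1 p.2 := by
    intro a
    obtain ⟨x, y, h⟩ := h1 _ (R.u_mem a 0)
    exact ⟨(x, y), h⟩
  choose αγ hα using hα
  let α : F → F := fun a => (αγ a).1
  let γ : F → F := fun a => (αγ a).2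
  have hα : ∀ a, ψ (R.u a 0) = R.u (α a) (γ a) := hα
  have hu : ∀ a b : F, R.u a b = R.u a 0 * R.u 0 b := by
    intro a b
    rw [R.u_mul]
    congr 1
    · ring
    · rw [map_zero]; ring
  have hαβ : ∀ a b, ψ (R.u a b) = R.u (α a) (γ a + β b) := by
    intro a b
    rw [hu, map_mul, hα, hβ, R.u_mul]
    congr 1
    · ring
    · rw [map_zero]; ring
  have hκ1 : ∀ k, κ k = k := by
    intro k
    apply Units.ext
    apply R.θ.injective
    rw [← hσθ, hσ1]
  have hβ2 : ∀ b, β b = β 1 * b := by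
    intro b
    have := hσ1 b
    rw [hσ, div_eq_iff hβ1] at this
    rw [this, mul_comm]
  have hβit : ∀ (j : ℕ) (b : F), ψ^[j] (R.u 0 b) = R.u 0 (β 1 ^ j * b) := by
    intro j
    induction j with
    | zero => intro b; simp
    | succ j ih =>
      intro b
      rw [Function.iterate_succ_apply, hβ, hβ2, ih]
      congr 1
      ring
  have hβ3 : β 1 = 1 := by
    have h3 := hβit 3 1
    rw [hit1, mul_one] at h3
    exact pow_three_eq_one hF (R.u_inj h3).2.symm
  have hβ4 : ∀ b, β b = b := by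
    intro b
    rw [hβ2, hβ3, one_mul]
  -- the action on `T / Z(T)`
  have hαd : ∀ (a : F) (k : Fˣ), α (a * k ^ 2 * (R.θ k)⁻¹) = α a * k ^ 2 * (R.θ k)⁻¹ ∧
      γ (a * k ^ 2 * (R.θ k)⁻¹) = γ a * R.θ k := by
    intro a k
    have h3 := congrArg ψ (R.conj_d k a 0)
    rw [map_mul, map_mul, map_inv, hκ, hκ1, hα, R.conj_d, zero_mul, hα] at h3
    exact ⟨(R.u_inj h3).1.symm, (R.u_inj h3).2.symm⟩
  have hα2 : ∀ a, α a = α 1 * a := by
    intro a
    by_cases ha : a = 0
    · subst ha
      have h3 := hα 0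
      rw [R.u_zero, map_one, ← R.u_zero] at h3
      rw [mul_zero, ← (R.u_inj h3).1]
    · obtain ⟨k, hk⟩ := R.exists_sq_div (Units.mk0 a ha)
      rw [Units.val_mk0] at hk
      have h3 := (hαd 1 k).1
      rw [one_mul, mul_assoc, hk] at h3
      exact h3
  have hαit : ∀ (j : ℕ) (a b : F), ∃ c, ψ^[j] (R.u a b) = R.u (α 1 ^ j * a) c := by
    intro j
    induction j with
    | zero => intro a b; exact ⟨b, by simp⟩
    | succ j ih =>
      intro a b
      rw [Function.iterate_succ_apply, hαβ, hα2 a]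
      obtain ⟨c, hc⟩ := ih (α 1 * a) (γ a + β b)
      refine ⟨c, ?_⟩
      rw [hc]
      congr 1
      ring
  have hα3 : α 1 = 1 := by
    obtain ⟨c, h3⟩ := hαit 3 1 0
    rw [hit1, mul_one] at h3
    exact pow_three_eq_one hF (R.u_inj h3).1.symm
  have hα4 : ∀ a, α a = a := by
    intro a
    rw [hα2, hα3, one_mul]
  -- the cocycle
  have hγadd : ∀ a c, γ (a + c) = γ a + γ c := by
    intro a c
    have h3 := congrArg ψ (R.u_mul a 0 c 0)
    rw [map_mul, hα, hα, hαβ, R.u_mul, hα4, hα4, hβ4] at h3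
    have := (R.u_inj h3).2
    linear_combination -this
  have hγ1 : ∀ x : F, γ x = γ 1 * (x * R.θ x) := by
    intro x
    by_cases hx : x = 0
    · subst hx
      have := hγadd 0 0
      rw [add_zero] at this
      rw [map_zero, mul_zero, mul_zero]
      linear_combination -this
    · obtain ⟨k, hk⟩ := R.exists_sq_div (Units.mk0 x hx)
      rw [Units.val_mk0] at hk
      have h3 := (hαd 1 k).2
      rw [one_mul, hk] at h3
      rw [h3]
      congr 1
      rw [← hk, map_mul, map_inv₀, map_pow, R.sq]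
      have h5 := R.theta_ne_zero k
      have h6 := k.ne_zero
      field_simp
  have hγ2 : γ 1 = 0 := by
    obtain ⟨x, hx⟩ := R.exists_theta_ne h8
    have h3 := hγadd 1 x
    rw [hγ1 (1 + x), hγ1 x, map_add, map_one] at h3
    have h4 : γ 1 * (x + R.θ x) = 0 := by linear_combination h3
    rcases mul_eq_zero.mp h4 with h5 | h5
    · exact h5
    · exfalso
      apply hx
      linear_combination h5 - x * R.two
  rintro _ ⟨a, b, rfl⟩
  rw [hαβ, hα4, hβ4, hγ1, hγ2]
  congr 1
  ring

/-- **The field has 8 elements**, or `ψ` (`ψ³ = 1 ≠ ψ`, fixing `T` and `T ^ w`) centralises an element `≠ 1` of the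
torus. -/
theorem dichotomy [Fintype F] {m : ℕ} (hm : 1 ≤ m) (hF : Fintype.card F = 2 ^ (2 * m + 1))
    {ψ : MulAut J} (hψ : ψ ^ 3 = 1) (hψ1 : ψ ≠ 1) (h1 : ∀ x ∈ R.T, ψ x ∈ R.T)
    (h2 : R.w * ψ R.w ∈ Subgroup.normalizer (R.T : Set J)) :
    Fintype.card F = 8 ∨ ∃ k : Fˣ, k ≠ 1 ∧ ψ (R.d k) = R.d k := by
  obtain ⟨κ, β, σ, hκ, hβ, hβ1, hσ, hσθ⟩ := coords R h1 h2
  have hit : ∀ k : ℕ, ∀ x, (ψ ^ k) x = ψ^[k] x := by
    intro k
    induction k with
    | zero => intro x; rfl
    | succ k ih =>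
      intro x
      rw [pow_succ', Function.iterate_succ_apply', ← ih]
      rfl
  have hit1 : ∀ x, ψ^[3] x = x := by
    intro x
    rw [← hit, hψ]
    rfl
  by_cases hne : ∃ x, σ x ≠ x
  · by_cases hfix : ∀ x, σ x = x → x = 0 ∨ x = 1
    · left
      refine card_eq_eight hF σ ?_ hne hfix
      have hκit : ∀ (j : ℕ) (k : Fˣ), ψ^[j] (R.d k) = R.d (κ^[j] k) := by
        intro j
        induction j with
        | zero => intro k; rfl
        | succ j ih =>
          intro k
          rw [Function.iterate_succ_apply, hκ, ih, Function.iterate_succ_apply]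
      have hσit : ∀ (j : ℕ) (k : Fˣ), σ^[j] (R.θ k) = R.θ (κ^[j] k) := by
        intro j
        induction j with
        | zero => intro k; rfl
        | succ j ih =>
          intro k
          rw [Function.iterate_succ_apply, hσθ, ih, Function.iterate_succ_apply]
      intro x
      by_cases hx : x = 0
      · rw [hx]
        exact Function.iterate_fixed (map_zero σ) _
      · obtain ⟨k, hk⟩ := R.theta_surj x
        have hk0 : k ≠ 0 := by
          rintro rfl
          rw [map_zero] at hk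
          exact hx hk.symm
        have h3 := hκit 3 (Units.mk0 k hk0)
        rw [hit1] at h3
        have h4 := hσit 3 (Units.mk0 k hk0)
        rw [← R.d_inj h3, Units.val_mk0, hk] at h4
        exact h4
    · right
      push Not at hfix
      obtain ⟨x, hx, hx0, hx1⟩ := hfix
      obtain ⟨k, hk⟩ := R.theta_surj x
      have hk0 : k ≠ 0 := by
        rintro rfl
        rw [map_zero] at hk
        exact hx0 hk.symm
      refine ⟨Units.mk0 k hk0, ?_, ?_⟩
      · intro h
        apply hx1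
        have : k = 1 := by
          rw [← Units.val_mk0 hk0, h]
          rfl
        rw [← hk, this, map_one]
      · rw [hκ]
        congr 1
        apply Units.ext
        apply R.θ.injective
        rw [← hσθ, Units.val_mk0, hk, hx]
  · exfalso
    push Not at hne
    exact hψ1 (R.eq_one_of_fix (fixes_T R hm hF h1 hit1 hκ hβ hβ1 hσ hσθ hne) h2)

end Cfsg.Agent.H257.SzThree
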