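import Mathlib
import Cfsg.Agent.H257.SzThreeA
import Cfsg.Agent.ThreePrime.SzDataExists
import Cfsg.Agent.Lib.SolvableNormalP

/-!
# Automorphisms of order 3 of `Sz(F)`: fixed points

`not_solvable`: a subgroup of `Sz(F)` with a nontrivial element of the torus, an involution of `Z(T)` and an involution
`w d(l)` is not solvable. `exists_good`: an automorphism `ψ`, `ψ³ = 1`, of a Suzuki group of order prime to 3 fixes `T`
and `T ^ w` for a suitable parametrisation. `main`: if moreover `ψ ≠ 1` and the fixed points of `ψ` form a solvable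
group, then the field has 8 elements.
-/

set_option autoImplicit false

namespace Cfsg.Agent.H257.SzThree

open Cfsg.Agent.ThreePrime

open scoped Pointwise

/-- fixed points of maps of prime order -/
theorem card_fixed_modEq (p : ℕ) [Fact p.Prime] {α : Type*} [Finite α] (f : α → α)
    (h : ∀ x, f^[p] x = x) : Nat.card α ≡ Nat.card {x : α // f x = x} [MOD p] := by
  classical
  have := Fintype.ofFinite α
  let g : Function.End α := f
  have h1 : g ^ p ^ 1 = 1 := by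
    rw [pow_one]
    funext x
    have h2 : ∀ (n : ℕ) (y : α), (g ^ n) y = f^[n] y := by
      intro n
      induction n with
      | zero => intro y; rfl
      | succ n ih =>
        intro y
        rw [pow_succ, Function.iterate_succ_apply, ← ih]
        rfl
    rw [h2, h]
    rfl
  have h2 := Equiv.Perm.card_fixedPoints_modEq (p := p) (n := 1) h1
  rw [← Nat.card_eq_fintype_card, ← Nat.card_eq_fintype_card] at h2
  exact h2

theorem exists_fixed (p : ℕ) [Fact p.Prime] {α : Type*} [Finite α] (f : α → α)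
    (h : ∀ x, f^[p] x = x) (hc : ¬ p ∣ Nat.card α) : ∃ x, f x = x := by
  by_contra hne
  push Not at hne
  have h1 := card_fixed_modEq p f h
  have h2 : IsEmpty {x : α // f x = x} := ⟨fun x => hne x.1 x.2⟩
  rw [@Nat.card_of_isEmpty _ h2] at h1
  exact hc ((Nat.modEq_zero_iff_dvd).1 h1)

theorem exists_fixed_ne (p : ℕ) [Fact p.Prime] {α : Type*} [Finite α] (f : α → α)
    (h : ∀ x, f^[p] x = x) (a : α) (ha : f a = a) (hc : ¬ Nat.card α ≡ 1 [MOD p]) :
    ∃ x, x ≠ a ∧ f x = x := by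
  by_contra hne
  push Not at hne
  have h1 := card_fixed_modEq p f h
  have h2 : Nat.card {x : α // f x = x} = 1 := by
    rw [Nat.card_eq_one_iff_unique]
    refine ⟨⟨fun x y => ?_⟩, ⟨⟨a, ha⟩⟩⟩
    apply Subtype.ext
    have hx : x.1 = a := by
      by_contra hxa
      exact hne x.1 hxa x.2
    have hy : y.1 = a := by
      by_contra hya
      exact hne y.1 hya y.2
    rw [hx, hy]
  rw [h2] at h1
  exact hc h1

variable {J : Type*} [Group J] {F : Type*} [Field F] (R : SzRel.Rel J F)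

/-- The centraliser of an element `≠ 1` of `T` lies in `T`. -/
theorem centralizer_le {x g : J} (hx : x ∈ R.T) (hx1 : x ≠ 1) (h : g * x = x * g) : g ∈ R.T := by
  have hg : g * x * g⁻¹ = x := by rw [h, mul_inv_cancel_right]
  obtain ⟨a, b, k, rfl⟩ := R.exists_ud hx hx1 (by rw [hg]; exact hx)
  obtain ⟨c, e, rfl⟩ := hx
  have h1 : (R.u a b * R.d k) * R.u c e * (R.u a b * R.d k)⁻¹ =
      R.u a b * (R.d k * R.u c e * (R.d k)⁻¹) * (R.u a b)⁻¹ := by group
  rw [h1, R.conj_d, R.conj_u] at hg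
  obtain ⟨h2, h3⟩ := R.u_inj hg
  have hk : k = 1 := by
    by_cases hc : c = 0
    · subst hc
      have h4 : e * R.θ k = e := by
        have := h3
        simp only [zero_mul, map_zero, mul_zero, add_zero] at this
        exact this
      have he : e ≠ 0 := by
        rintro rfl
        exact hx1 R.u_zero
      have h5 : R.θ (k : F) = 1 := by
        apply mul_left_cancel₀ he
        rw [h4, mul_one]
      apply Units.ext
      apply R.θ.injective
      rw [h5, Units.val_one, map_one]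
    · have h4 : (k : F) ^ 2 * (R.θ k)⁻¹ = 1 := by
        apply mul_left_cancel₀ hc
        rw [← mul_assoc, h2, mul_one]
      have h5 : (k : F) ^ 2 = R.θ k := by
        rw [mul_inv_eq_one₀ (R.theta_ne_zero k)] at h4
        exact h4
      rw [← R.sq] at h5
      rcases R.fix_theta h5 with h6 | h6
      · exact absurd h6 (R.theta_ne_zero k)
      · apply Units.ext
        apply R.θ.injective
        rw [h6, Units.val_one, map_one]
  rw [hk, R.d_one, mul_one]
  exact R.u_mem a b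

/-- `T ∩ T ^ (w d)` is trivial -/
theorem eq_one_of_mem {x : J} (hx : x ∈ R.T) {l : Fˣ}
    (h : (R.w * R.d l) * x * (R.w * R.d l)⁻¹ ∈ R.T) : x = 1 := by
  obtain ⟨a, b, rfl⟩ := hx
  obtain ⟨c, e, hce⟩ := h
  have h1 : (R.w * R.d l) * R.u a b * (R.w * R.d l)⁻¹ =
      R.w * (R.d l * R.u a b * (R.d l)⁻¹) * R.w := by
    rw [_root_.mul_inv_rev, R.w_inv]
    group
  rw [h1, R.conj_d] at hce
  have h2 := R.inter _ _ c e 1 (by rw [hce, R.d_one, mul_one])
  obtain ⟨h3, h4⟩ := h2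
  have ha : a = 0 := by
    have h5 : (l : F) ^ 2 * (R.θ l)⁻¹ ≠ 0 :=
      mul_ne_zero (pow_ne_zero _ l.ne_zero) (inv_ne_zero (R.theta_ne_zero l))
    rw [mul_assoc] at h3
    exact (mul_eq_zero.mp h3).resolve_right h5
  have hb : b = 0 := (mul_eq_zero.mp h4).resolve_right (R.theta_ne_zero l)
  rw [ha, hb, R.u_zero]

/-- Elements normalising a cyclic subgroup: their commutators centralise it. -/
theorem comm_of_cyclic {G : Type*} [Group G] {x y n : G} {i j : ℤ} (hx : x * n * x⁻¹ = n ^ i)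
    (hy : y * n * y⁻¹ = n ^ j) : (x⁻¹ * y⁻¹ * x * y) * n = n * (x⁻¹ * y⁻¹ * x * y) := by
  have h1 : ∀ k : ℤ, x * n ^ k * x⁻¹ = n ^ (i * k) := by
    intro k
    rw [← conj_zpow, hx, zpow_mul]
  have h2 : ∀ k : ℤ, y * n ^ k * y⁻¹ = n ^ (j * k) := by
    intro k
    rw [← conj_zpow, hy, zpow_mul]
  have h3 : x * y * n * (x * y)⁻¹ = y * x * n * (y * x)⁻¹ := by
    calc x * y * n * (x * y)⁻¹ = x * (y * n * y⁻¹) * x⁻¹ := by group
      _ = n ^ (i * j) := by rw [hy, h1]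
      _ = n ^ (j * i) := by rw [mul_comm]
      _ = y * (x * n * x⁻¹) * y⁻¹ := by rw [hx, h2]
      _ = y * x * n * (y * x)⁻¹ := by group
  calc (x⁻¹ * y⁻¹ * x * y) * n = (y * x)⁻¹ * (x * y * n * (x * y)⁻¹) * (x * y) := by group
    _ = n * (x⁻¹ * y⁻¹ * x * y) := by
        rw [h3]
        group

/-- **A nonsolvability criterion**: a subgroup of a Suzuki group which contains a nontrivial element of the torus `D`, a
nontrivial element of `Z(T)` and an element of `w D`. -/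
theorem not_solvable [Finite J] (hodd : ∀ (p : ℕ) [Fact p.Prime], p ≠ 2 → ∀ Q : Sylow p J, IsCyclic Q)
    (C : Subgroup J) {k : Fˣ} (hk : k ≠ 1) (hkC : R.d k ∈ C) {c : F} (hc : c ≠ 0)
    (hcC : R.u 0 c ∈ C) {l : Fˣ} (hl : R.w * R.d l ∈ C) : ¬ Group.IsSolvable C := by
  intro hs
  have hz1 : R.u 0 c ≠ 1 := R.u_ne_one hc
  have hnt : Nontrivial C := ⟨⟨⟨R.u 0 c, hcC⟩, 1, fun h => hz1 (congrArg Subtype.val h)⟩⟩
  obtain ⟨p, N, hp, hN, hNp, hNc, hNb⟩ := Cfsg.Agent.Lib.SolvableNormalP.exists_normal_pSubgroup C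
  have : Fact p.Prime := ⟨hp⟩
  let M : Subgroup J := N.map C.subtype
  have hMp : IsPGroup p M := hNp.map _
  have hMn : ∀ g ∈ C, ∀ n ∈ M, g * n * g⁻¹ ∈ M := by
    rintro g hg _ ⟨n, hn, rfl⟩
    exact ⟨⟨g, hg⟩ * n * ⟨g, hg⟩⁻¹, hN.conj_mem n hn ⟨g, hg⟩, rfl⟩
  have hMc : ∀ a ∈ M, ∀ b ∈ M, a * b = b * a := by
    rintro _ ⟨a, ha, rfl⟩ _ ⟨b, hb, rfl⟩
    have := hNc.is_comm.comm ⟨a, ha⟩ ⟨b, hb⟩
    have h2 : a * b = b * a := congrArg Subtype.val this
    rw [← map_mul, h2, map_mul]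
  obtain ⟨⟨n₀, hn₀⟩, hn₀1⟩ := Subgroup.ne_bot_iff_exists_ne_one.mp hNb
  have hn₀1 : n₀ ≠ 1 := fun h => hn₀1 (Subtype.ext h)
  have hM0 : (n₀ : J) ∈ M := ⟨n₀, hn₀, rfl⟩
  have hM1 : (n₀ : J) ≠ 1 := fun h => hn₀1 (Subtype.ext h)
  by_cases hp2 : p = 2
  · subst hp2
    -- a fixed point of the involution `u 0 c` on `M`
    have hzz : R.u 0 c * R.u 0 c = 1 := (R.u_sq_iff 0 c).2 rfl
    have hzi : (R.u 0 c)⁻¹ = R.u 0 c := inv_eq_of_mul_eq_one_right hzz
    let f : M → M := fun x => ⟨R.u 0 c * x * (R.u 0 c)⁻¹, hMn _ hcC _ x.2⟩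
    have hf : ∀ x, f^[2] x = x := by
      intro x
      apply Subtype.ext
      show R.u 0 c * (R.u 0 c * x * (R.u 0 c)⁻¹) * (R.u 0 c)⁻¹ = x
      calc R.u 0 c * (R.u 0 c * x * (R.u 0 c)⁻¹) * (R.u 0 c)⁻¹ =
          (R.u 0 c * R.u 0 c) * x * (R.u 0 c * R.u 0 c)⁻¹ := by group
        _ = x := by rw [hzz]; group
    have hf1 : f 1 = 1 := by
      apply Subtype.ext
      show R.u 0 c * 1 * (R.u 0 c)⁻¹ = 1
      group
    have hcard : ¬ Nat.card M ≡ 1 [MOD 2] := by
      intro h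
      obtain ⟨e, he⟩ := IsPGroup.iff_card.mp hMp
      have hMnt : Nontrivial M := ⟨⟨⟨n₀, hM0⟩, 1, fun h => hM1 (congrArg Subtype.val h)⟩⟩
      have h1 := Finite.one_lt_card (α := M)
      have he0 : e ≠ 0 := by
        rintro rfl
        rw [he, pow_zero] at h1
        exact lt_irrefl _ h1
      have h2 : 2 ∣ Nat.card M := by rw [he]; exact dvd_pow_self 2 he0
      have h3 : Nat.card M % 2 = 1 := h
      omega
    obtain ⟨⟨n, hnM⟩, hn1, hnf⟩ := exists_fixed_ne 2 f hf 1 hf1 hcard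
    have hn1 : n ≠ 1 := fun h => hn1 (Subtype.ext h)
    have hnf : R.u 0 c * n * (R.u 0 c)⁻¹ = n := congrArg Subtype.val hnf
    have hnz : n * R.u 0 c = R.u 0 c * n := (mul_inv_eq_iff_eq_mul.mp hnf).symm
    have hnT : n ∈ R.T := centralizer_le R (R.u_mem 0 c) hz1 hnz
    have hn'M := hMn _ hl n hnM
    have hn'T : (R.w * R.d l) * n * (R.w * R.d l)⁻¹ ∈ R.T :=
      centralizer_le R hnT hn1 (hMc _ hn'M _ hnM)
    exact hn1 (eq_one_of_mem R hnT hn'T)
  · obtain ⟨Q, hQ⟩ := hMp.exists_le_sylow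
    have := hodd p hp2 Q
    have hMcy : IsCyclic M := isCyclic_of_injective (Subgroup.inclusion hQ) (Subgroup.inclusion_injective hQ)
    obtain ⟨g, hg⟩ := hMcy.exists_generator
    have hgM : ∀ x ∈ M, ∃ i : ℤ, x = (g : J) ^ i := by
      intro x hx
      obtain ⟨i, hi⟩ := Subgroup.mem_zpowers_iff.mp (hg ⟨x, hx⟩)
      exact ⟨i, (congrArg Subtype.val hi).symm⟩
    obtain ⟨i, hi⟩ := hgM _ (hMn _ hkC _ g.2)
    obtain ⟨j, hj⟩ := hgM _ (hMn _ hcC _ g.2)
    have h1 := comm_of_cyclic hi hj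
    have h2 : (R.d k)⁻¹ * (R.u 0 c)⁻¹ * R.d k * R.u 0 c = R.u 0 (c * R.θ (k⁻¹ : Fˣ) + c) := by
      have h3 : (R.u 0 c)⁻¹ = R.u 0 c := inv_eq_of_mul_eq_one_right ((R.u_sq_iff 0 c).2 rfl)
      have h4 : R.d k = (R.d k⁻¹)⁻¹ := by rw [R.d_inv, inv_inv]
      have h5 : (R.d k)⁻¹ * R.u 0 c * R.d k = R.d k⁻¹ * R.u 0 c * (R.d k⁻¹)⁻¹ := by
        rw [← h4, R.d_inv]
      rw [h3, h5]
      rw [R.conj_d, R.u_mul]
      congr 1
      · ring
      · ring
    rw [h2] at h1
    have h3 : c * R.θ (k⁻¹ : Fˣ) + c ≠ 0 := by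
      intro h
      apply hk
      have h4 : c * (R.θ (k⁻¹ : Fˣ) - 1) = 0 := by
        linear_combination h - c * R.two
      have h5 := (mul_eq_zero.mp h4).resolve_left hc
      have h6 : ((k⁻¹ : Fˣ) : F) = 1 := by
        apply R.θ.injective
        rw [map_one]
        exact sub_eq_zero.mp h5
      have h7 : k⁻¹ = 1 := Units.ext h6
      exact inv_eq_one.mp h7
    have h4 : (g : J) ∈ R.T := centralizer_le R (R.u_mem 0 _) (R.u_ne_one h3) h1.symm
    have h5 : (g : J) ^ 4 = 1 := R.pow_four h4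
    obtain ⟨e, he⟩ := hMp g
    have h6 : (g : J) ^ p ^ e = 1 := congrArg Subtype.val he
    have h7 : orderOf (g : J) ∣ 4 := orderOf_dvd_of_pow_eq_one h5
    have h8 : orderOf (g : J) ∣ p ^ e := orderOf_dvd_of_pow_eq_one h6
    have h9 : Nat.Coprime 4 (p ^ e) := by
      apply Nat.Coprime.pow_right
      have h10 : Nat.Coprime (2 ^ 2) p := Nat.Coprime.pow_left _
        ((Nat.coprime_primes Nat.prime_two hp).mpr (fun h => hp2 h.symm))
      exact h10
    have h10 : (g : J) = 1 := orderOf_eq_one_iff.mp (Nat.eq_one_of_dvd_coprimes h9 h7 h8)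
    obtain ⟨i, hi⟩ := hgM _ hM0
    apply hM1
    rw [hi, h10, one_zpow]

include R in
/-- A parametrisation adapted to an automorphism of order 3. -/
theorem exists_good [Finite J] [Fintype F] {m : ℕ} (hm : 1 ≤ m) (hF : Fintype.card F = 2 ^ (2 * m + 1))
    (h3 : ¬ 3 ∣ Nat.card J) (ψ : MulAut J) (hψ : ψ ^ 3 = 1) :
    ∃ R' : SzRel.Rel J F, (∀ x ∈ R'.T, ψ x ∈ R'.T) ∧
      R'.w * ψ R'.w ∈ Subgroup.normalizer (R'.T : Set J) := by
  have : Fact (Nat.Prime 2) := ⟨Nat.prime_two⟩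
  have : Fact (Nat.Prime 3) := ⟨Nat.prime_three⟩
  obtain ⟨P, hP⟩ := R.exists_sylow_eq hm hF
  -- the action on Sylow subgroups
  let f : Sylow 2 J → Sylow 2 J := fun Q => ψ • Q
  have hf : ∀ Q, f^[3] Q = Q := by
    intro Q
    show ψ • ψ • ψ • Q = Q
    rw [smul_smul, smul_smul]
    have : ψ * (ψ * ψ) = 1 := by rw [← hψ]; rfl
    rw [← mul_assoc] at this
    rw [this, one_smul]
  have hcard : Nat.card (Sylow 2 J) ∣ Nat.card J := by
    rw [Sylow.card_eq_card_quotient_normalizer P]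
    exact Subgroup.card_quotient_dvd_card _
  obtain ⟨Q, hQ⟩ := exists_fixed 3 f hf (fun h => h3 (h.trans hcard))
  obtain ⟨g, hg⟩ := MulAction.exists_smul_eq J P Q
  -- first change of parametrisation
  obtain ⟨R1, hR1⟩ : ∃ R1 : SzRel.Rel J F, R1.T = (Q : Subgroup J) := by
    refine ⟨R.map (MulAut.conj g), ?_⟩
    ext x
    rw [← hg, Sylow.coe_subgroup_smul, hP]
    constructor
    · rintro ⟨a, b, rfl⟩
      exact ⟨R.u a b, R.u_mem a b, rfl⟩
    · rintro ⟨_, ⟨a, b, rfl⟩, rfl⟩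
      exact ⟨a, b, rfl⟩
  have hT : ∀ x ∈ R1.T, ψ x ∈ R1.T := R1.map_conj_T ψ Q hR1.symm hQ
  have hsm : ∀ x : J, x • Q = Q ↔ x ∈ Subgroup.normalizer (R1.T : Set J) := by
    intro x
    rw [Sylow.smul_eq_iff_mem_normalizer, hR1]
    exact Iff.rfl
  have hQT : ∀ x ∈ R1.T, x • Q = Q := fun x hx => (hsm x).mpr (Subgroup.le_normalizer hx)
  -- the number of Sylow subgroups
  let e : Option R1.T → Sylow 2 J := fun x => x.elim Q (fun y => ((y : J) * R1.w) • Q)
  have he : Function.Bijective e := by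
    constructor
    · rintro (_ | ⟨x, hx⟩) (_ | ⟨y, hy⟩) hxy
      · rfl
      · exfalso
        have h1 : (y * R1.w) • Q = Q := hxy.symm
        rw [hsm] at h1
        apply R1.w_not_mem_normalizer
        have h2 := mul_mem (inv_mem (Subgroup.le_normalizer hy)) h1
        rwa [inv_mul_cancel_left] at h2
      · exfalso
        have h1 : (x * R1.w) • Q = Q := hxy
        rw [hsm] at h1
        apply R1.w_not_mem_normalizer
        have h2 := mul_mem (inv_mem (Subgroup.le_normalizer hx)) h1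
        rwa [inv_mul_cancel_left] at h2
      · have h1 : (x * R1.w) • Q = (y * R1.w) • Q := hxy
        have h2 : ((y * R1.w)⁻¹ * (x * R1.w)) • Q = Q := by
          rw [mul_smul, h1, inv_smul_smul]
        rw [hsm] at h2
        have h3 : (y * R1.w)⁻¹ * (x * R1.w) = R1.w * (y⁻¹ * x) * R1.w := by
          rw [_root_.mul_inv_rev, R1.w_inv]
          group
        rw [h3] at h2
        obtain ⟨a, b, hab⟩ := mul_mem (inv_mem hy) hx
        obtain ⟨c, e', k, hk⟩ := R1.norm h2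
        rw [hab] at hk
        obtain ⟨rfl, rfl⟩ := R1.inter _ _ _ _ _ hk
        rw [R1.u_zero] at hab
        congr 1
        apply Subtype.ext
        exact (inv_mul_eq_one.mp hab).symm
    · intro Q'
      obtain ⟨h, rfl⟩ := MulAction.exists_smul_eq J Q Q'
      rcases R1.bruhat h with ⟨a, b, k, hh⟩ | ⟨a, b, c, e', k, hh⟩
      · refine ⟨none, ?_⟩
        show Q = h • Q
        rw [hh]
        exact ((hsm _).mpr (R1.ud_mem_normalizer a b k)).symm
      · refine ⟨some ⟨R1.u a b, R1.u_mem a b⟩, ?_⟩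
        show (R1.u a b * R1.w) • Q = h • Q
        rw [hh, mul_smul (R1.u a b * R1.w), (hsm _).mpr (R1.ud_mem_normalizer c e' k)]
  have hcount : Nat.card (Sylow 2 J) = Nat.card R1.T + 1 := by
    rw [← Nat.card_congr (Equiv.ofBijective e he), Finite.card_option]
  have hne : ¬ Nat.card (Sylow 2 J) ≡ 1 [MOD 3] := by
    rw [hcount]
    intro h
    have h1 : Nat.card R1.T ≡ 0 [MOD 3] := Nat.ModEq.add_right_cancel' 1 h
    exact h3 (((Nat.modEq_zero_iff_dvd).1 h1).trans (Subgroup.card_subgroup_dvd_card _))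
  obtain ⟨Q', hQ'ne, hQ'⟩ := exists_fixed_ne 3 f hf Q hQ hne
  obtain ⟨o, ho⟩ := he.2 Q'
  rcases o with _ | ⟨x, hx⟩
  · exact absurd ho.symm hQ'ne
  have ho : (x * R1.w) • Q = Q' := ho
  -- second change of parametrisation
  have hN : (x * R1.w)⁻¹ * ψ (x * R1.w) ∈ Subgroup.normalizer (R1.T : Set J) := by
    rw [← hsm, mul_smul, inv_smul_eq_iff, ho]
    have h4 : ψ (x * R1.w) • Q = ψ • ((x * R1.w) • Q) := by
      have h5 : ψ (x * R1.w) • Q = ψ (x * R1.w) • (ψ • Q) := by rw [show ψ • Q = Q from hQ]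
      rw [h5]
      apply Sylow.ext
      rw [Sylow.coe_subgroup_smul, Sylow.pointwise_smul_def, Sylow.pointwise_smul_def,
        Sylow.coe_subgroup_smul]
      ext y
      constructor
      · rintro ⟨_, ⟨z, hz, rfl⟩, rfl⟩
        refine ⟨(x * R1.w) * z * (x * R1.w)⁻¹, ⟨z, hz, rfl⟩, ?_⟩
        show ψ ((x * R1.w) * z * (x * R1.w)⁻¹) = ψ (x * R1.w) * ψ z * (ψ (x * R1.w))⁻¹
        rw [map_mul, map_mul ψ (x * R1.w) z, map_inv]
      · rintro ⟨_, ⟨z, hz, rfl⟩, rfl⟩
        refine ⟨ψ z, ⟨z, hz, rfl⟩, ?_⟩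
        show ψ (x * R1.w) * ψ z * (ψ (x * R1.w))⁻¹ = ψ ((x * R1.w) * z * (x * R1.w)⁻¹)
        rw [map_mul ψ (x * R1.w * z), map_mul ψ (x * R1.w) z, map_inv]
    rw [h4, ho]
    exact hQ'
  have hT2 : (R1.map (MulAut.conj x)).T = R1.T := by
    ext y
    constructor
    · rintro ⟨a, b, rfl⟩
      exact mul_mem (mul_mem hx (R1.u_mem a b)) (inv_mem hx)
    · intro hy
      obtain ⟨a, b, hab⟩ := mul_mem (mul_mem (inv_mem hx) hy) hx
      refine ⟨a, b, ?_⟩
      show y = x * R1.u a b * x⁻¹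
      rw [← hab]
      group
  refine ⟨R1.map (MulAut.conj x), ?_, ?_⟩
  · rw [hT2]
    exact hT
  · rw [hT2]
    show (x * R1.w * x⁻¹) * ψ (x * R1.w * x⁻¹) ∈ _
    have h6 : (x * R1.w * x⁻¹) * ψ (x * R1.w * x⁻¹) =
        x * ((x * R1.w)⁻¹ * ψ (x * R1.w)) * (ψ x)⁻¹ := by
      rw [map_mul ψ (x * R1.w), map_inv, _root_.mul_inv_rev, R1.w_inv]
      group
    rw [h6]
    exact mul_mem (mul_mem (Subgroup.le_normalizer hx) hN)
      (inv_mem (Subgroup.le_normalizer (hT x hx)))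

/-- **Main result**: if an automorphism `ψ`, `ψ³ = 1 ≠ ψ`, of a Suzuki group over `F` (of order prime to 3) has a
solvable group of fixed points, then `|F| = 8`. -/
theorem main [Finite J] [Fintype F] {m : ℕ} (hm : 1 ≤ m) (hF : Fintype.card F = 2 ^ (2 * m + 1))
    (R₀ : SzRel.Rel J F) (h3 : ¬ 3 ∣ Nat.card J)
    (hodd : ∀ (p : ℕ) [Fact p.Prime], p ≠ 2 → ∀ Q : Sylow p J, IsCyclic Q)
    (ψ : MulAut J) (hψ : ψ ^ 3 = 1) (hψ1 : ψ ≠ 1)
    (C : Subgroup J) (hC : ∀ x, ψ x = x → x ∈ C) (hs : Group.IsSolvable C) : Fintype.card F = 8 := by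
  have : Fact (Nat.Prime 3) := ⟨Nat.prime_three⟩
  obtain ⟨R, h1, h2⟩ := exists_good R₀ hm hF h3 ψ hψ
  rcases dichotomy R hm hF hψ hψ1 h1 h2 with h | ⟨k, hk, hkψ⟩
  · exact h
  · exfalso
    have hit : ∀ k : ℕ, ∀ x, (ψ ^ k) x = ψ^[k] x := by
      intro k
      induction k with
      | zero => intro x; rfl
      | succ k ih =>
        intro x
        rw [pow_succ', Function.iterate_succ_apply', ← ih]
        rfl
    have hit1 : ∀ x, ψ^[3] x = x := by
      intro x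
      rw [← hit, hψ]
      rfl
    obtain ⟨κ, β, σ, hκ, hβ, hβ1, hσ, hσθ⟩ := coords R h1 h2
    -- a fixed element of `Z(T)`
    obtain ⟨c, hc, hcβ⟩ := exists_fixed_ne 3 β (by
      intro b
      have h4 : ψ^[3] (R.u 0 b) = R.u 0 (β^[3] b) := by
        show ψ (ψ (ψ (R.u 0 b))) = _
        rw [hβ, hβ, hβ]
        rfl
      rw [hit1] at h4
      exact (R.u_inj h4).2.symm) 0 (by
      have h4 := hβ 0
      rw [R.u_zero, map_one, ← R.u_zero] at h4
      exact (R.u_inj h4).2.symm) (by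
      rw [Nat.card_eq_fintype_card, hF]
      intro h4
      have h5 : 2 ^ (2 * m + 1) % 3 = 1 := h4
      rw [two_pow_mod] at h5
      omega)
    -- a fixed element of `w D`
    have hw : ∃ l₀ : Fˣ, ψ R.w = R.w * R.d l₀ := by
      obtain ⟨l₀, hl₀⟩ := R.mem_D_of h2 (by
        have h4 : R.w * (R.w * ψ R.w) * R.w = (R.w * ψ R.w)⁻¹ := by
          rw [_root_.mul_inv_rev, R.w_inv, ← map_inv, R.w_inv, ← mul_assoc, R.w_mul_w, one_mul]
        rw [h4]
        exact inv_mem h2)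
      refine ⟨l₀, ?_⟩
      rw [← hl₀, ← mul_assoc, R.w_mul_w, one_mul]
    obtain ⟨l₀, hl₀⟩ := hw
    let f : Fˣ → Fˣ := fun l => l₀ * κ l
    have hf : ∀ l, ψ (R.w * R.d l) = R.w * R.d (f l) := by
      intro l
      rw [map_mul, hl₀, hκ, mul_assoc, R.d_mul]
    obtain ⟨l, hl⟩ := exists_fixed 3 f (by
      intro l
      have h4 : ψ^[3] (R.w * R.d l) = R.w * R.d (f^[3] l) := by
        show ψ (ψ (ψ (R.w * R.d l))) = _
        rw [hf, hf, hf]
        rfl
      rw [hit1] at h4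
      exact (R.d_inj (mul_left_cancel h4)).symm) (by
      rw [Nat.card_units, Nat.card_eq_fintype_card, hF]
      have := two_pow_mod m
      omega)
    refine not_solvable R hodd C hk (hC _ hkψ) hc (hC _ ?_) (l := l) (hC _ ?_) hs
    · rw [hβ, hcβ]
    · rw [hf, hl]

end Cfsg.Agent.H257.SzThree
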