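import Mathlib
import Cfsg.Prelude.Def_Local
import Cfsg.Agent.SignalizersComponents.Components
import Cfsg.Agent.ThreePrime.AutQuot
import Cfsg.Agent.H257.SzThreeB

/-!
# Components and elements of order 3 with solvable centralizer

`mem_normalizer`: an element of order 3 with solvable centralizer normalises every component. `exists_aut`: if the
component has order prime to 3, it acts nontrivially on the central quotient and its fixed points there form a solvable
group.
-/

set_option autoImplicit false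

namespace Cfsg.Agent.H257.CompThree

open Cfsg
open Cfsg.Agent.SignalizersComponents.Components

/-- the map `k ↦ k · k^y · k^(y²)` on three commuting conjugates -/
theorem isSolvable_of_comm {G : Type*} [Group G] (K : Subgroup G) (y : G)
    (hy : y ^ 3 = 1) (hsol : Group.IsSolvable ↥(Subgroup.centralizer ({y} : Set G)))
    (h1 : ∀ a ∈ K, ∀ b ∈ K, a * (y * b * y⁻¹) = (y * b * y⁻¹) * a)
    (h2 : ∀ a ∈ K, ∀ b ∈ K, a * (y * y * b * y⁻¹ * y⁻¹) = (y * y * b * y⁻¹ * y⁻¹) * a) :
    Group.IsSolvable K := by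
  have h3 : ∀ a ∈ K, ∀ b ∈ K, (y * a * y⁻¹) * (y * y * b * y⁻¹ * y⁻¹) =
      (y * y * b * y⁻¹ * y⁻¹) * (y * a * y⁻¹) := by
    intro a ha b hb
    have := congrArg (fun x => y * x * y⁻¹) (h1 a ha b hb)
    calc (y * a * y⁻¹) * (y * y * b * y⁻¹ * y⁻¹) = y * (a * (y * b * y⁻¹)) * y⁻¹ := by group
      _ = y * ((y * b * y⁻¹) * a) * y⁻¹ := this
      _ = (y * y * b * y⁻¹ * y⁻¹) * (y * a * y⁻¹) := by group
  let φ : K → G := fun k => (k : G) * (y * k * y⁻¹) * (y * y * k * y⁻¹ * y⁻¹)
  have hφm : ∀ a b : K, φ (a * b) = φ a * φ b := by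
    intro a b
    have e1 := h1 b b.2 a a.2
    have e2 := h2 b b.2 a a.2
    have e3 := h3 b b.2 a a.2
    show ((a * b : K) : G) * (y * ((a * b : K) : G) * y⁻¹) * (y * y * ((a * b : K) : G) * y⁻¹ * y⁻¹) =
      ((a : G) * (y * a * y⁻¹) * (y * y * a * y⁻¹ * y⁻¹)) * ((b : G) * (y * b * y⁻¹) * (y * y * b * y⁻¹ * y⁻¹))
    rw [Subgroup.coe_mul]
    calc (a : G) * b * (y * (a * b) * y⁻¹) * (y * y * (a * b) * y⁻¹ * y⁻¹)
        = a * (b * (y * a * y⁻¹)) * ((y * b * y⁻¹) * (y * y * a * y⁻¹ * y⁻¹)) * (y * y * b * y⁻¹ * y⁻¹) := by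
          group
      _ = a * (y * a * y⁻¹) * (b * (y * y * a * y⁻¹ * y⁻¹)) * (y * b * y⁻¹) * (y * y * b * y⁻¹ * y⁻¹) := by
          rw [e1, e3]
          simp only [mul_assoc]
      _ = _ := by
          rw [e2]
          simp only [mul_assoc]
  -- the values of `φ` commute with `y`
  have hφy : ∀ k : K, φ k ∈ Subgroup.centralizer ({y} : Set G) := by
    intro k
    rw [Subgroup.mem_centralizer_singleton_iff]
    have hy3 : y * y * y = 1 := by rw [← hy, pow_succ, pow_two]
    have e1 := h1 k k.2 k k.2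
    have e2 := h2 k k.2 k k.2
    have e5 : y * (y * y * (k : G) * y⁻¹ * y⁻¹) * y⁻¹ = k := by
      have : y * (y * y * (k : G) * y⁻¹ * y⁻¹) * y⁻¹ = (y * y * y) * k * (y * y * y)⁻¹ := by group
      rw [this, hy3]
      group
    have e4 : y * ((k : G) * (y * k * y⁻¹) * (y * y * k * y⁻¹ * y⁻¹)) * y⁻¹ =
        (y * k * y⁻¹) * (y * y * k * y⁻¹ * y⁻¹) * k := by
      calc y * ((k : G) * (y * k * y⁻¹) * (y * y * k * y⁻¹ * y⁻¹)) * y⁻¹
          = (y * k * y⁻¹) * (y * y * k * y⁻¹ * y⁻¹) * (y * (y * y * (k : G) * y⁻¹ * y⁻¹) * y⁻¹) := by group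
        _ = _ := by rw [e5]
    have e6 : (k : G) * (y * k * y⁻¹) * (y * y * k * y⁻¹ * y⁻¹) =
        (y * k * y⁻¹) * (y * y * k * y⁻¹ * y⁻¹) * k := by
      have e7 : Commute (k : G) ((y * k * y⁻¹) * (y * y * k * y⁻¹ * y⁻¹)) := Commute.mul_right e1 e2
      rw [mul_assoc]
      exact e7
    show (k : G) * (y * k * y⁻¹) * (y * y * k * y⁻¹ * y⁻¹) * y = y * ((k : G) * (y * k * y⁻¹) * (y * y * k * y⁻¹ * y⁻¹))
    rw [e6] at e4 ⊢
    exact (mul_inv_eq_iff_eq_mul.mp e4).symm
  let f : K →* ↥(Subgroup.centralizer ({y} : Set G)) :=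
    { toFun := fun k => ⟨φ k, hφy k⟩
      map_one' := by
        apply Subtype.ext
        show (1 : G) * (y * 1 * y⁻¹) * (y * y * 1 * y⁻¹ * y⁻¹) = 1
        group
      map_mul' := fun a b => Subtype.ext (hφm a b) }
  -- the kernel is central
  have hkc : ∀ k ∈ f.ker, ∀ a : K, k * a = a * k := by
    intro k hk a
    have hk1 : (k : G) * (y * k * y⁻¹) * (y * y * k * y⁻¹ * y⁻¹) = 1 := congrArg Subtype.val hk
    apply Subtype.ext
    show (k : G) * a = a * k
    have e4 : Commute (a : G) ((y * k * y⁻¹) * (y * y * k * y⁻¹ * y⁻¹)) :=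
      Commute.mul_right (h1 a a.2 k k.2) (h2 a a.2 k k.2)
    have e3 : (k : G) = ((y * k * y⁻¹) * (y * y * k * y⁻¹ * y⁻¹))⁻¹ := by
      rw [eq_inv_iff_mul_eq_one, ← mul_assoc]
      exact hk1
    have e5 := e4.inv_right
    rw [← e3] at e5
    exact e5.symm
  have hksol : Group.IsSolvable f.ker :=
    Group.isSolvable_of_comm (fun a b => Subtype.ext (hkc a a.2 b))
  exact Group.isSolvable_of_ker_le_range f.ker.subtype f (by rw [Subgroup.range_subtype])

/-- An element of order 3 with solvable centralizer normalises every component. -/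
theorem mem_normalizer {G : Type*} [Group G] [Finite G] {K : Subgroup G} (hK : IsComponent K) {y : G}
    (hy : y ^ 3 = 1) (hsol : Group.IsSolvable ↥(Subgroup.centralizer ({y} : Set G))) :
    y ∈ Subgroup.normalizer (K : Set G) := by
  by_contra hn
  apply quasisimple_not_isSolvable hK.2
  have hfin : ∀ g : G, g ∉ Subgroup.normalizer (K : Set G) → ∀ a ∈ K, ∀ b ∈ K,
      a * (g * b * g⁻¹) = (g * b * g⁻¹) * a := by
    intro g hg a ha b hb
    have hne : K ≠ K.map (MulAut.conj g).toMonoidHom := by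
      intro h
      apply hg
      rw [Subgroup.mem_normalizer_iff]
      intro x
      constructor
      · intro hx
        rw [h]
        exact ⟨x, hx, rfl⟩
      · intro hx
        rw [h] at hx
        obtain ⟨z, hz, hzx⟩ := hx
        have : g * z * g⁻¹ = g * x * g⁻¹ := hzx
        have h5 : z = x := by simpa using this
        exact h5 ▸ hz
    have h2 := component_le_centralizer_of_ne hK (isComponent_conj g hK) hne ha
    rw [Subgroup.mem_centralizer_iff] at h2
    exact (h2 (g * b * g⁻¹) ⟨b, hb, rfl⟩).symm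
  have hyy : y * y ∉ Subgroup.normalizer (K : Set G) := by
    intro h
    apply hn
    have hyi : y = (y * y)⁻¹ := by
      rw [eq_inv_iff_mul_eq_one, ← hy]
      rw [pow_succ, pow_two, mul_assoc]
    rw [hyi]
    exact inv_mem h
  refine isSolvable_of_comm K y hy hsol (hfin y hn) ?_
  intro a ha b hb
  have := hfin _ hyy a ha b hb
  rw [_root_.mul_inv_rev, ← mul_assoc (y * y * b)] at this
  exact this

/-- The action on the central quotient. -/
theorem exists_aut {G : Type*} [Group G] [Finite G] {K : Subgroup G} (hK : IsComponent K)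
    (h3 : ¬ 3 ∣ Nat.card K) {y : G} (hy : y ^ 3 = 1)
    (hsol : Group.IsSolvable ↥(Subgroup.centralizer ({y} : Set G))) :
    ∃ ψ : MulAut (↥K ⧸ Subgroup.center ↥K), ψ ^ 3 = 1 ∧ ψ ≠ 1 ∧
      ∃ C : Subgroup (↥K ⧸ Subgroup.center ↥K), Group.IsSolvable C ∧ ∀ x, ψ x = x → x ∈ C := by
  have : Fact (Nat.Prime 3) := ⟨Nat.prime_three⟩
  have hn := mem_normalizer hK hy hsol
  let α : MulAut K := Subgroup.normalizerMonoidHom K ⟨y, hn⟩
  have hα : ∀ x : K, ((α x : K) : G) = y * x * y⁻¹ := fun x => rfl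
  have hα3 : α ^ 3 = 1 := by
    have h1 : α ^ 3 = Subgroup.normalizerMonoidHom K (⟨y, hn⟩ ^ 3) := (map_pow _ _ _).symm
    rw [h1]
    have h2 : (⟨y, hn⟩ : Subgroup.normalizer (K : Set G)) ^ 3 = 1 := Subtype.ext hy
    rw [h2, map_one]
  have hα3' : ∀ x, α (α (α x)) = x := by
    intro x
    have : (α ^ 3) x = x := by rw [hα3]; rfl
    exact this
  let C0 : Subgroup K := (Subgroup.centralizer ({y} : Set G)).subgroupOf K
  have hC0 : ∀ x : K, x ∈ C0 ↔ α x = x := by
    intro x
    rw [Subgroup.mem_subgroupOf, Subgroup.mem_centralizer_singleton_iff, Subtype.ext_iff, hα,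
      mul_inv_eq_iff_eq_mul]
    exact eq_comm
  have hC0s : Group.IsSolvable C0 := by
    let i : C0 →* ↥(Subgroup.centralizer ({y} : Set G)) :=
      { toFun := fun x => ⟨((x : K) : G), x.2⟩
        map_one' := rfl
        map_mul' := fun _ _ => rfl }
    have hi : Function.Injective i := by
      intro a b hab
      have : ((a : K) : G) = ((b : K) : G) :=
        congrArg (fun z : ↥(Subgroup.centralizer ({y} : Set G)) => (z : G)) hab
      exact Subtype.ext (Subtype.ext this)
    exact Group.isSolvable_of_isSolvable_injective hi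
  refine ⟨Cfsg.Agent.ThreePrime.AutQuot.autQuot K α, ?_, ?_,
    C0.map (QuotientGroup.mk' (Subgroup.center K)), ?_, ?_⟩
  · rw [← map_pow, hα3, map_one]
  · intro h
    have h1 : α = 1 := Cfsg.Agent.ThreePrime.AutQuot.eq_one_of_autQuot_eq_one hK.2.1 h
    apply quasisimple_not_isSolvable hK.2
    have h2 : C0 = ⊤ := by
      rw [eq_top_iff]
      intro x _
      rw [hC0, h1]
      rfl
    rw [h2] at hC0s
    exact Group.isSolvable_of_isSolvable_injective (f := (Subgroup.topEquiv (G := K)).symm.toMonoidHom)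
      (Subgroup.topEquiv (G := K)).symm.injective
  · exact Group.isSolvable_of_surjective (f := (QuotientGroup.mk' (Subgroup.center K)).subgroupMap C0)
      (MonoidHom.subgroupMap_surjective _ _)
  · intro x hx
    obtain ⟨k, rfl⟩ := QuotientGroup.mk_surjective x
    have h1 : (QuotientGroup.mk (α k) : K ⧸ Subgroup.center K) = QuotientGroup.mk k := hx
    have h2 : k⁻¹ * α k ∈ Subgroup.center K := QuotientGroup.eq.mp h1.symm
    have hαz : ∀ z ∈ Subgroup.center K, α z ∈ Subgroup.center K := by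
      intro z hz
      have := Cfsg.Agent.ThreePrime.AutQuot.map_center α
      rw [← this]
      exact ⟨z, hz, rfl⟩
    let f : Subgroup.center K → Subgroup.center K := fun z =>
      ⟨k⁻¹ * α k * α z, mul_mem h2 (hαz z z.2)⟩
    have hf : ∀ z : Subgroup.center K, k * (f z : K) = α (k * z) := by
      intro z
      show k * (k⁻¹ * α k * α z) = α (k * z)
      rw [map_mul]
      group
    have hcard : ¬ 3 ∣ Nat.card (Subgroup.center K) := fun h =>
      h3 (h.trans (Subgroup.card_subgroup_dvd_card _))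
    obtain ⟨z, hz⟩ := Cfsg.Agent.H257.SzThree.exists_fixed 3 f (by
      intro z
      apply Subtype.ext
      apply mul_left_cancel (a := k)
      show k * (f (f (f z)) : K) = k * z
      rw [hf, hf, hf, hα3']) hcard
    have h4 : α (k * z) = k * z := by rw [← hf, hz]
    refine ⟨k * z, (hC0 _).mpr h4, ?_⟩
    rw [QuotientGroup.mk'_apply, QuotientGroup.mk_mul, (QuotientGroup.eq_one_iff (z : K)).mpr z.2,
      mul_one]

end Cfsg.Agent.H257.CompThree
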